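import Groth.Prelude.Def_KRR
import Groth.Agent.RelVALib.UPProp
import Groth.Agent.Props12.FinLocFree
import Groth.Agent.PicLib.FiniteSetTriv
import Groth.Agent.Coherent.QcohSections
import Groth.Agent.H8Coh.RpushVanishBC

/-!
# Morphisms to a projective bundle given by its universal property

Auxiliary facts: morphisms out of a quasi-coherent module over an affine open are determined by, and can be
prescribed on, a basis of sections; the universal property in terms of sections.
-/

set_option autoImplicit false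
set_option linter.unusedSectionVars false
set_option backward.isDefEq.respectTransparency.types false
set_option maxHeartbeats 1000000

universe u

open AlgebraicGeometry CategoryTheory TopologicalSpace Opposite
open Groth.Agent.Coherent Groth.Agent.PicLib Groth.Agent.AmpleLib

namespace Groth.Agent.KRRPBLib

variable {X P T : Scheme.{u}} {E : X.Modules} {U : X.Opens} {n : ℕ}

/-- Rank one modules are invertible. -/
theorem isInvertible_of_rankOne {L : X.Modules} (h : FlatMod.IsFinLocFreeOfRank 1 L) : PicF.IsInvertible L :=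
  fun x => by
    obtain ⟨V, hx, ⟨e⟩⟩ := h x
    exact ⟨V, hx, ⟨e ≪≫ PicLib.freeModOneIso _⟩⟩

/-- On an affine open, near a point, a section is a combination of a spanning family. -/
theorem exists_near_eq_sum [Coh.IsQCoh E] (hU : IsAffineOpen U) (b : Module.Basis (Fin n) Γ(X, U) Γ(E, U))
    {V : X.Opens} (x : Γ(E, V)) {y : X} (hyU : y ∈ U) (hyV : y ∈ V) :
    ∃ (W : X.Opens) (hWU : W ≤ U) (hWV : W ≤ V), y ∈ W ∧ ∃ c : Fin n → Γ(X, W),
      resM E hWV x = ∑ i, c i • resM E hWU (b i) := by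
  classical
  obtain ⟨f, hfV, hyf⟩ := hU.exists_basicOpen_le ⟨y, hyV⟩ hyU
  obtain ⟨N, s, hs⟩ := qcoh_exists_pow_smul hU E f (resM E hfV x)
  obtain ⟨w, hw⟩ := (isUnit_res_pow f (X.basicOpen_le f) le_rfl N).exists_left_inv
  refine ⟨X.basicOpen f, X.basicOpen_le f, hfV, hyf, fun i => w * res (X.basicOpen_le f) (b.repr s i), ?_⟩
  have h1 := congrArg (resM E (X.basicOpen_le f)) (b.sum_repr s)
  rw [map_sum] at h1
  simp only [resM_smul] at h1
  simp only [mul_smul]
  rw [← Finset.smul_sum, h1, hs, smul_smul, hw, one_smul]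

/-- Morphisms to a pushforward from a space lying over an affine open are determined by a basis. -/
theorem hom_ext_basis [Coh.IsQCoh E] (hU : IsAffineOpen U) (b : Module.Basis (Fin n) Γ(X, U) Γ(E, U))
    (g : T ⟶ X) (hg : g ⁻¹ᵁ U = ⊤) {N : T.Modules} (t t' : E ⟶ (Scheme.Modules.pushforward g).obj N)
    (h : ∀ i, t.app U (b i) = t'.app U (b i)) : t = t' := by
  refine RelVALib.hom_ext_affine _ _ fun V hV x => ?_
  refine AmpleLib.sec_ext (U := g ⁻¹ᵁ V) N _ _ fun y hy => ?_
  have hyU : g y ∈ U := by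
    show y ∈ g ⁻¹ᵁ U
    rw [hg]; trivial
  obtain ⟨W, hWU, hWV, hyW, c, hc⟩ := exists_near_eq_sum hU b x hyU hy
  refine ⟨g ⁻¹ᵁ W, g.preimage_mono hWV, hyW, ?_⟩
  show resM ((Scheme.Modules.pushforward g).obj N) hWV (t.app V x) =
    resM ((Scheme.Modules.pushforward g).obj N) hWV (t'.app V x)
  rw [← app_resM, ← app_resM, hc, map_sum, map_sum]
  refine Finset.sum_congr rfl fun i _ => ?_
  rw [Scheme.Modules.Hom.app_smul, Scheme.Modules.Hom.app_smul, app_resM, app_resM, h i]

theorem app_freeBasisVec {Y : Scheme.{u}} {I : Type u} {M : Y.Modules} (φ : I → (Coh.structureModule Y ⟶ M))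
    (i : I) (V : Y.Opens) : (freeDesc φ).app V (freeBasisVec i V) = unitVal (φ i) V := by
  show (freeInj i ≫ freeDesc φ).app V (1 : Γ(Y, V)) = _
  rw [freeInj_freeDesc]
  rfl

/-- Morphisms from the restriction with prescribed values on a basis. -/
theorem exists_hom_restrict [Coh.IsQCoh E] (hU : IsAffineOpen U) (b : Module.Basis (Fin n) Γ(X, U) Γ(E, U))
    (N : U.toScheme.Modules) (c : Fin n → Γ(N, ⊤)) :
    ∃ ψ : E.restrict U.ι ⟶ N, ∀ i,
      ψ.app ⊤ ((E.restrictAppIso U.ι ⊤).inv (resM E (Scheme.Opens.ι_image_top U).le (b i))) = c i := by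
  classical
  have : IsAffine U.toScheme := hU
  have := H8Coh.isQCoh_restrictOpen U E
  have := isQCoh_freeMod (X := U.toScheme) (I := ULift.{u} (Fin n))
  let b₁ : Fin n → Γ(E.restrict U.ι, ⊤) := fun i =>
    (E.restrictAppIso U.ι ⊤).inv (resM E (Scheme.Opens.ι_image_top U).le (b i))
  let φ := freeDesc fun i : ULift.{u} (Fin n) => unitDesc (E.restrict U.ι) (b₁ i.down)
  have hval : ∀ i : ULift.{u} (Fin n), φ.app ⊤ (freeBasisVec i ⊤) = b₁ i.down := fun i =>
    (app_freeBasisVec _ i ⊤).trans ((unitVal_unitDesc _ _ ⊤).trans (resM_self (E.restrict U.ι) le_top _))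
  have hφ : IsIso φ := by
    refine Props12.isIso_of_bijective_top φ ?_
    obtain ⟨b', hb'⟩ : ∃ b' : Module.Basis (Fin n) Γ(U.toScheme, ⊤) Γ(E.restrict U.ι, ⊤), ∀ i, b' i = b₁ i := by
      obtain ⟨b0, hb0⟩ : ∃ b0 : Module.Basis (Fin n) Γ(X, U.ι ''ᵁ ⊤) Γ(E, U.ι ''ᵁ ⊤),
          ∀ i, b0 i = resM E (Scheme.Opens.ι_image_top U).le (b i) := by
        suffices H : ∀ (O : X.Opens) (h : O ≤ U) (_ : U = O), ∃ b0 : Module.Basis (Fin n) Γ(X, O) Γ(E, O),
            ∀ i, b0 i = resM E h (b i) from H _ _ (Scheme.Opens.ι_image_top U).symm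
        rintro O h rfl
        exact ⟨b, fun i => (resM_self E h (b i)).symm⟩
      let _ := Module.compHom Γ(E.restrict U.ι, ⊤) (U.ι.appIso ⊤).hom.hom
      let l : Γ(E, U.ι ''ᵁ ⊤) ≃ₗ[Γ(X, U.ι ''ᵁ ⊤)] Γ(E.restrict U.ι, ⊤) :=
        { (E.restrictAppIso U.ι ⊤).addCommGroupIsoToAddEquiv.symm with
          map_smul' := fun r m => by
            apply (E.restrictAppIso U.ι ⊤).addCommGroupIsoToAddEquiv.injective
            change (E.restrictAppIso U.ι _).hom ((E.restrictAppIso U.ι _).inv (r • m)) =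
              (E.restrictAppIso U.ι _).hom
                ((U.ι.appIso ⊤).hom r • (E.restrictAppIso U.ι _).inv m)
            rw [Scheme.Modules.smul_restrictAppIso_hom_apply]
            erw [Iso.hom_inv_id_apply, Iso.inv_hom_id_apply, Iso.inv_hom_id_apply]
            rfl }
      refine ⟨(b0.map l).mapCoeffs (U.ι.appIso ⊤).commRingCatIsoToRingEquiv fun _ _ => rfl, fun i => ?_⟩
      rw [Module.Basis.mapCoeffs_apply, Module.Basis.map_apply, hb0]
      rfl
    let b'' := b'.reindex (Equiv.ulift.{u}.symm)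
    have hv : ⇑(φ.app ⊤) = b''.equivFun.symm ∘ freeSectionsEquiv ⊤ := funext fun a => by
      rw [freeMod_app, Function.comp_apply, Module.Basis.equivFun_symm_apply]
      refine Finset.sum_congr rfl fun i _ => ?_
      rw [freeInj_freeDesc, unitVal_unitDesc]
      refine congrArg₂ (· • ·) rfl ((resM_self (E.restrict U.ι) le_top _).trans ?_)
      simp [b'', hb']
    rw [hv]
    exact b''.equivFun.symm.bijective.comp (freeSectionsEquiv ⊤).bijective
  refine ⟨inv φ ≫ freeDesc (fun i : ULift.{u} (Fin n) => unitDesc N (c i.down)), fun i => ?_⟩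
  show (freeDesc fun i : ULift.{u} (Fin n) => unitDesc N (c i.down)).app ⊤ ((inv φ).app ⊤ (b₁ i)) = c i
  have h2 : (inv φ).app ⊤ (b₁ i) = freeBasisVec (ULift.up i) ⊤ := by
    rw [← hval (ULift.up i), ← ConcreteCategory.comp_apply, ← Scheme.Modules.Hom.comp_app, IsIso.hom_inv_id]
    rfl
  rw [h2]
  exact (app_freeBasisVec _ (ULift.up i) ⊤).trans ((unitVal_unitDesc _ _ ⊤).trans (resM_self N le_top _))

theorem restrict_homEquiv_app {V : X.Opens} {M : U.toScheme.Modules} (ψ : E.restrict U.ι ⟶ M) (e : Γ(E, V)) :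
    ((Scheme.Modules.restrictAdjunction U.ι).homEquiv E M ψ).app V e =
      ψ.app (U.ι ⁻¹ᵁ V) ((E.restrictAppIso U.ι (U.ι ⁻¹ᵁ V)).inv (resM E (U.ι.image_preimage_le V) e)) := by
  rw [Adjunction.homEquiv_unit]
  rfl

theorem resM_restrictAppIso_inv (V W : U.toScheme.Opens) (h : W ≤ V) (e : Γ(E, U.ι ''ᵁ V)) :
    resM (E.restrict U.ι) h ((E.restrictAppIso U.ι V).inv e) =
      (E.restrictAppIso U.ι W).inv (resM E (U.ι.image_mono h) e) :=
  rfl

/-- Morphisms to a pushforward with prescribed values on a basis over an affine open. -/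
theorem exists_hom_basis [Coh.IsQCoh E] (hU : IsAffineOpen U) (b : Module.Basis (Fin n) Γ(X, U) Γ(E, U))
    (g₀ : T ⟶ U.toScheme) (N : T.Modules) (c : Fin n → Γ(N, ⊤)) :
    ∃ t : E ⟶ (Scheme.Modules.pushforward (g₀ ≫ U.ι)).obj N,
      ∀ i, t.app U (b i) = resM N le_top (c i) := by
  obtain ⟨ψ, hψ⟩ := exists_hom_restrict hU b ((Scheme.Modules.pushforward g₀).obj N) c
  let t₁ := (Scheme.Modules.restrictAdjunction U.ι).homEquiv E ((Scheme.Modules.pushforward g₀).obj N) ψ
  have hval : ∀ i, t₁.app U (b i) =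
      resM ((Scheme.Modules.pushforward g₀).obj N) (le_top : U.ι ⁻¹ᵁ U ≤ ⊤) (c i) := fun i => by
    rw [show t₁.app U (b i) = _ from restrict_homEquiv_app ψ (b i), ← hψ i, ← app_resM,
      resM_restrictAppIso_inv, resM_resM]
  exact ⟨t₁, fun i => hval i⟩

/-- The adjunct of the universal quotient. -/
noncomputable abbrev adjunct {π : P ⟶ X} {O1 : P.Modules} (q : (Scheme.Modules.pullback π).obj E ⟶ O1) :
    E ⟶ (Scheme.Modules.pushforward π).obj O1 :=
  (Scheme.Modules.pullbackPushforwardAdjunction π).homEquiv E O1 q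

variable {π : P ⟶ X} {O1 : P.Modules} {q : (Scheme.Modules.pullback π).obj E ⟶ O1}
  (hP : KRR.IsProjBundle π E O1 q)

include hP in
theorem exists_classifies (g : T ⟶ X) {L : T.Modules} (hL : PicF.IsInvertible L)
    (t : E ⟶ (Scheme.Modules.pushforward g).obj L)
    (ht : Epi (((Scheme.Modules.pullbackPushforwardAdjunction g).homEquiv E L).symm t)) :
    ∃! r : T ⟶ P, ∃ (hr : r ≫ π = g) (τ : (Scheme.Modules.pullback r).obj O1 ≅ L),
      RelVALib.Classifies (adjunct q) g t r hr τ := by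
  obtain ⟨r, ⟨hr, τ, hτ⟩, huniq⟩ := hP.univ T g L (PicLib.isFinLocFreeOfRank_one hL)
    (((Scheme.Modules.pullbackPushforwardAdjunction g).homEquiv E L).symm t) ht
  have key : ∀ {r : T ⟶ P} (hr : r ≫ π = g) (τ : (Scheme.Modules.pullback r).obj O1 ≅ L),
      ((Scheme.Modules.pullbackCongr hr).inv.app E ≫ (Scheme.Modules.pullbackComp r π).inv.app E ≫
        (Scheme.Modules.pullback r).map q ≫ τ.hom =
          ((Scheme.Modules.pullbackPushforwardAdjunction g).homEquiv E L).symm t) ↔
      RelVALib.Classifies (adjunct q) g t r hr τ := fun {r} hr τ => by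
    have h := RelVALib.classifies_iff (φ := adjunct q) hr τ
      (((Scheme.Modules.pullbackPushforwardAdjunction g).homEquiv E L).symm t)
    rw [Equiv.symm_apply_apply, Equiv.apply_symm_apply] at h
    exact h
  exact ⟨r, ⟨hr, τ, (key hr τ).1 hτ⟩, fun r' ⟨hr', τ', h'⟩ => huniq r' ⟨hr', τ', (key hr' τ').2 h'⟩⟩

/-- The composite of a hom with the universal quotient, in sections. -/
theorem app_adjunct_pullback (r : T ⟶ P) {L : T.Modules} (w : (Scheme.Modules.pullback r).obj O1 ⟶ L)
    (V : X.Opens) (e : Γ(E, V)) :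
    ((Scheme.Modules.pullbackPushforwardAdjunction (r ≫ π)).homEquiv E L
      ((Scheme.Modules.pullbackComp r π).inv.app E ≫ (Scheme.Modules.pullback r).map q ≫ w)).app V e =
      w.app (r ⁻¹ᵁ (π ⁻¹ᵁ V)) (PicLib.pullSec r ((adjunct q).app V e)) := by
  rw [Adjunction.homEquiv_unit]
  show w.app _ (((Scheme.Modules.pullback r).map q).app _
      (((Scheme.Modules.pullbackComp r π).inv.app E).app _ (PicLib.pullSec (r ≫ π) e))) = _
  rw [pullbackComp_inv_app_pullSec]
  refine congrArg (w.app _) ?_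
  refine (RelVALib.map_app_pullSec r q (π ⁻¹ᵁ V) (PicLib.pullSec π e)).trans ?_
  refine congrArg _ ?_
  rw [adjunct, Adjunction.homEquiv_unit]
  rfl

end Groth.Agent.KRRPBLib
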