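import Groth.Agent.KRRPBLib.Basic
import Groth.Agent.BlowUpLib.Chart
import Mathlib.RingTheory.MvPolynomial.Basic

/-!
# The standard charts of a projective bundle given by its universal property

`D hP U b k` is the locus over `U` where the image of the `k`-th basis section generates `O(1)`; it is affine
`m`-space over `U`, with coordinates `coord j`.
-/

set_option autoImplicit false
set_option linter.unusedSectionVars false
set_option backward.isDefEq.respectTransparency.types false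
set_option maxHeartbeats 1000000

universe u

open AlgebraicGeometry CategoryTheory TopologicalSpace Opposite
open Groth.Agent.Coherent Groth.Agent.PicLib Groth.Agent.AmpleLib

namespace Groth.Agent.KRRPBLib

variable {X P T : Scheme.{u}} {E : X.Modules} {π : P ⟶ X} {O1 : P.Modules}
  (q : (Scheme.Modules.pullback π).obj E ⟶ O1) {U : X.Opens} {m : ℕ}

/-- The image of a section of `E` in `O(1)`. -/
noncomputable def sec (e : Γ(E, U)) : Γ(O1, π ⁻¹ᵁ U) := (adjunct q).app U e

/-- The locus where the image of `e` generates `O(1)`. -/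
def D (e : Γ(E, U)) : P.Opens :=
  sSup {W | ∃ h : W ≤ π ⁻¹ᵁ U, IsGen O1 W (resM O1 h (sec q e))}

theorem D_le (e : Γ(E, U)) : D q e ≤ π ⁻¹ᵁ U :=
  sSup_le fun _ ⟨h, _⟩ => h

theorem le_D {e : Γ(E, U)} {W : P.Opens} (h : W ≤ π ⁻¹ᵁ U) (hW : IsGen O1 W (resM O1 h (sec q e))) :
    W ≤ D q e :=
  le_sSup ⟨h, hW⟩

theorem isGen_D (e : Γ(E, U)) : IsGen O1 (D q e) (resM O1 (D_le q e) (sec q e)) := by
  refine isGen_of_cover (ι := {W : P.Opens // ∃ h : W ≤ π ⁻¹ᵁ U, IsGen O1 W (resM O1 h (sec q e))})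
    (fun W => W.1) (fun W => le_sSup W.2) ?_ fun W => ?_
  · intro x hx
    obtain ⟨W, hW, hxW⟩ := Opens.mem_sSup.1 hx
    exact Opens.mem_iSup.2 ⟨⟨W, hW⟩, hxW⟩
  · obtain ⟨h, hW⟩ := W.2
    rwa [resM_resM]

/-- The coordinate of `e'` on the locus of `e`. -/
noncomputable def coord (e e' : Γ(E, U)) : Γ(P, D q e) :=
  (isGen_D q e).coef le_rfl (resM O1 (D_le q e) (sec q e'))

theorem coord_spec (e e' : Γ(E, U)) :
    coord q e e' • resM O1 (D_le q e) (sec q e) = resM O1 (D_le q e) (sec q e') := by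
  have h := (isGen_D q e).coef_spec le_rfl (resM O1 (D_le q e) (sec q e'))
  rwa [resM_self] at h

theorem coord_self (e : Γ(E, U)) : coord q e e = 1 :=
  IsGen.coef_eq _ _ (by rw [resM_self, one_smul])

theorem basicOpen_coord_le (e e' : Γ(E, U)) : P.basicOpen (coord q e e') ≤ D q e' := by
  refine le_D q ((P.basicOpen_le _).trans (D_le q e)) ?_
  have h := RelVALib.isGen_basicOpen_of_smul (isGen_D q e) (coord_spec q e e')
  rwa [resM_resM] at h

/-- The pullback of the generator generates. -/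
theorem pullSec_gen (hO1 : PicF.IsInvertible O1) (r : T ⟶ P) (e : Γ(E, U)) :
    IsGen ((Scheme.Modules.pullback r).obj O1) (r ⁻¹ᵁ D q e)
      (resM _ (r.preimage_mono (D_le q e)) (PicLib.pullSec r (sec q e))) := by
  rw [resM_pullSec r (D_le q e) (sec q e)]
  exact isGen_pullSec r (isGen_D q e) hO1

theorem pullSec_coord (r : T ⟶ P) (e e' : Γ(E, U)) :
    resM _ (r.preimage_mono (D_le q e)) (PicLib.pullSec r (sec q e')) =
      r.app (D q e) (coord q e e') •
        resM ((Scheme.Modules.pullback r).obj O1) (r.preimage_mono (D_le q e)) (PicLib.pullSec r (sec q e)) := by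
  rw [resM_pullSec r (D_le q e) (sec q e), resM_pullSec r (D_le q e) (sec q e'), ← pullSec_smul, coord_spec]

variable {q} (hP : KRR.IsProjBundle π E O1 q) (hU : IsAffineOpen U)
  (b : Module.Basis (Fin (m + 1)) Γ(X, U) Γ(E, U))

include hP in
/-- The loci of a basis cover the bundle over `U`. -/
theorem exists_mem_D [Coh.IsQCoh E] {n : ℕ} (b : Module.Basis (Fin n) Γ(X, U) Γ(E, U)) {y : P}
    (hy : y ∈ π ⁻¹ᵁ U) (hU : IsAffineOpen U) : ∃ i, y ∈ D q (b i) := by
  have : Epi (((Scheme.Modules.pullbackPushforwardAdjunction π).homEquiv E O1).symm (adjunct q)) := by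
    rw [adjunct, Equiv.symm_apply_apply]; exact hP.epi
  obtain ⟨V, -, e, W, hW, hyW, hgen⟩ :=
    RelVALib.exists_gen_of_epi π (isInvertible_of_rankOne hP.invertible) (adjunct q) y
  obtain ⟨W₁, hWU, hWV, hyW₁, c, hc⟩ := exists_near_eq_sum hU b e hy (hW hyW)
  let W₂ := W ⊓ π ⁻¹ᵁ W₁
  have hg := hgen.restrict (inf_le_left : W₂ ≤ W)
  rw [resM_resM] at hg
  let d : Fin n → Γ(P, W₂) := fun i => hg.coef le_rfl (resM O1 (inf_le_right.trans (π.preimage_mono hWU)) (sec q (b i)))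
  have hd : ∀ i, d i • resM O1 (inf_le_left.trans hW : W₂ ≤ π ⁻¹ᵁ V) ((adjunct q).app V e) =
      resM O1 (inf_le_right.trans (π.preimage_mono hWU)) (sec q (b i)) := fun i => by
    have := hg.coef_spec le_rfl (resM O1 (inf_le_right.trans (π.preimage_mono hWU)) (sec q (b i)))
    rwa [resM_self] at this
  have hsum : (∑ i, res (inf_le_right : W₂ ≤ π ⁻¹ᵁ W₁) (π.app W₁ (c i)) * d i) = 1 := by
    refine (hg W₂ le_rfl).1 ?_
    show (∑ i, _) • _ = (1 : Γ(P, W₂)) • _
    rw [resM_self, one_smul, Finset.sum_smul]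
    have h1 := congrArg ((adjunct q).app W₁) hc
    rw [map_sum, app_resM] at h1
    simp only [Scheme.Modules.Hom.app_smul, app_resM] at h1
    have h2 := congrArg (resM O1 (inf_le_right : W₂ ≤ π ⁻¹ᵁ W₁)) h1
    erw [map_sum] at h2
    refine Eq.trans ?_ (h2.symm.trans (resM_resM O1 (π.preimage_mono hWV) _ _))
    refine Finset.sum_congr rfl fun i _ => ?_
    rw [mul_smul, hd i]
    refine Eq.trans ?_ (resM_smul O1 _ _ _).symm
    exact congrArg (res _ (π.app W₁ (c i)) • ·) (resM_resM O1 (π.preimage_mono hWU) _ _).symm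
  have hy₂ : y ∈ W₂ := ⟨hyW, hyW₁⟩
  obtain ⟨i, hi⟩ : ∃ i, y ∈ P.basicOpen (d i) := by
    by_contra hcon
    push Not at hcon
    have h := congrArg (P.presheaf.germ W₂ y hy₂) hsum
    rw [map_sum, map_one] at h
    refine IsLocalRing.notMem_maximalIdeal.2 (isUnit_one (M := P.presheaf.stalk y)) (h ▸ Ideal.sum_mem _ fun i _ => ?_)
    rw [map_mul]
    refine Ideal.mul_mem_left _ _ ?_
    exact (IsLocalRing.mem_maximalIdeal _).2 fun hu => hcon i ((P.mem_basicOpen _ y hy₂).2 hu)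
  refine ⟨i, le_D q ((P.basicOpen_le _).trans (inf_le_right.trans (π.preimage_mono hWU))) ?_ hi⟩
  have h := RelVALib.isGen_basicOpen_of_smul hg (hd i)
  rwa [resM_resM] at h

include hP hU in
/-- Morphisms into the chart are determined by the coordinates. -/
theorem eq_of_coords [Coh.IsQCoh E] (k : Fin (m + 1)) (r r' : T ⟶ P) (hrr : r ≫ π = r' ≫ π)
    (hr : r ⁻¹ᵁ D q (b k) = ⊤) (hr' : r' ⁻¹ᵁ D q (b k) = ⊤)
    (h : ∀ i, r.appLE _ ⊤ hr.ge (coord q (b k) (b i)) = r'.appLE _ ⊤ hr'.ge (coord q (b k) (b i))) : r = r' := by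
  have hinv := isInvertible_of_rankOne hP.invertible
  let L := (Scheme.Modules.pullback r').obj O1
  let gen : ∀ (s : T ⟶ P), (s ⁻¹ᵁ D q (b k) = ⊤) → Γ((Scheme.Modules.pullback s).obj O1, ⊤) := fun s hs =>
    resM _ (hs.ge.trans (s.preimage_mono (D_le q (b k)))) (PicLib.pullSec s (sec q (b k)))
  have hgen : ∀ (s : T ⟶ P) (hs : s ⁻¹ᵁ D q (b k) = ⊤), IsGen _ ⊤ (gen s hs) := fun s hs => by
    have := (pullSec_gen q hinv s (b k)).restrict hs.ge
    rwa [resM_resM] at this
  have hcoord : ∀ (s : T ⟶ P) (hs : s ⁻¹ᵁ D q (b k) = ⊤) (i : Fin (m + 1)),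
      resM _ (hs.ge.trans (s.preimage_mono (D_le q (b k)))) (PicLib.pullSec s (sec q (b i))) =
        s.appLE _ ⊤ hs.ge (coord q (b k) (b i)) • gen s hs := fun s hs i => by
    have e1 := congrArg (resM _ hs.ge) (pullSec_coord q s (b k) (b i))
    rw [resM_resM, resM_smul, resM_resM] at e1
    exact e1
  obtain ⟨τ, hτ⟩ : ∃ τ : (Scheme.Modules.pullback r).obj O1 ≅ L, τ.hom.app ⊤ (gen r hr) = gen r' hr' := by
    obtain ⟨w, hw⟩ := exists_hom_of_gen (L := (Scheme.Modules.pullback r).obj O1) (M := L)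
      (fun _ : PUnit.{u+1} => (⊤ : T.Opens)) (iSup_const) (fun _ => gen r hr) (fun _ => hgen r hr)
      (fun _ => gen r' hr') (fun i j W hi hj c hc => by
        have hc1 : c = 1 := ((hgen r hr) W hi).1 (by simpa using hc.symm)
        rw [hc1, one_smul])
    have : IsIso w := isIso_of_gens w (fun _ : PUnit.{u+1} => (⊤ : T.Opens)) iSup_const (fun _ => gen r hr)
      (fun _ => hgen r hr) (fun i => by rw [hw i]; exact hgen r' hr')
    exact ⟨asIso w, hw PUnit.unit⟩
  let t₂ : E ⟶ (Scheme.Modules.pushforward (r' ≫ π)).obj L :=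
    (Scheme.Modules.pullbackPushforwardAdjunction (r' ≫ π)).homEquiv E L
      ((Scheme.Modules.pullbackCongr hrr).inv.app E ≫ (Scheme.Modules.pullbackComp r π).inv.app E ≫
        (Scheme.Modules.pullback r).map q ≫ τ.hom)
  let t : E ⟶ (Scheme.Modules.pushforward (r' ≫ π)).obj L :=
    (Scheme.Modules.pullbackPushforwardAdjunction (r' ≫ π)).homEquiv E L
      ((Scheme.Modules.pullbackCongr (rfl : r' ≫ π = r' ≫ π)).inv.app E ≫
        (Scheme.Modules.pullbackComp r' π).inv.app E ≫ (Scheme.Modules.pullback r').map q ≫ (Iso.refl L).hom)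
  have hc₂ : RelVALib.Classifies (adjunct q) (r' ≫ π) t₂ r hrr τ := by
    refine (RelVALib.classifies_iff hrr τ _).1 ?_
    rw [adjunct, Equiv.symm_apply_apply]
  have hc' : RelVALib.Classifies (adjunct q) (r' ≫ π) t r' rfl (Iso.refl L) := by
    refine (RelVALib.classifies_iff rfl (Iso.refl L) _).1 ?_
    rw [adjunct, Equiv.symm_apply_apply]
  have hg : (r' ≫ π) ⁻¹ᵁ U = ⊤ := top_le_iff.1 (hr'.ge.trans (r'.preimage_mono (D_le q (b k))))
  have ht : t₂ = t := by
    refine hom_ext_basis hU b _ hg _ _ fun i => ?_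
    have key : ∀ (h0 : (⊤ : T.Opens) ≤ (r' ≫ π) ⁻¹ᵁ U) (x y : Γ(L, (r' ≫ π) ⁻¹ᵁ U)),
        resM L h0 x = resM L h0 y → x = y := fun h0 x y hxy => by
      have h1 := congrArg (resM L (le_top : (r' ≫ π) ⁻¹ᵁ U ≤ ⊤)) hxy
      rwa [resM_resM, resM_resM, resM_self, resM_self] at h1
    refine key hg.ge _ _ ?_
    have h2 := congrArg (resM L (hr.ge.trans (r.preimage_mono (D_le q (b k))))) (hc₂ U hU (b i))
    have h3 := congrArg (resM L (hr'.ge.trans (r'.preimage_mono (D_le q (b k))))) (hc' U hU (b i))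
    rw [← app_resM, resM_resM] at h2 h3
    refine h2.symm.trans (Eq.trans ?_ h3)
    show τ.hom.app ⊤ (resM _ _ (PicLib.pullSec r (sec q (b i)))) = resM L _ (PicLib.pullSec r' (sec q (b i)))
    rw [hcoord r hr i, hcoord r' hr' i, Scheme.Modules.Hom.app_smul, hτ, h i]
  have hepi : Epi (((Scheme.Modules.pullbackPushforwardAdjunction (r' ≫ π)).homEquiv E L).symm t) := by
    refine RelVALib.epi_of_exists_gen _ t fun x => ⟨U, b k, ⊤, hg.ge, trivial, ?_⟩
    have h3 := congrArg (resM L (hr'.ge.trans (r'.preimage_mono (D_le q (b k))))) (hc' U hU (b k))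
    rw [← app_resM, resM_resM] at h3
    rw [← h3]
    exact hgen r' hr'
  obtain ⟨r₀, -, huniq⟩ := exists_classifies hP (r' ≫ π) (PicLoc.isInvertible_pullback r' hinv) t hepi
  exact (huniq r ⟨hrr, τ, ht ▸ hc₂⟩).trans (huniq r' ⟨rfl, Iso.refl L, hc'⟩).symm

/-- The coordinates as a map from the polynomial ring. -/
noncomputable def coordHom (k : Fin (m + 1)) : MvPolynomial (Fin m) Γ(X, U) →+* Γ(P, D q (b k)) :=
  MvPolynomial.eval₂Hom (π.appLE U (D q (b k)) (D_le q (b k))).hom fun j => coord q (b k) (b (k.succAbove j))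

/-- The coordinate morphism of the chart. -/
noncomputable def toAffineSpace (k : Fin (m + 1)) :
    (D q (b k) : Scheme.{u}) ⟶ Spec (CommRingCat.of (MvPolynomial (Fin m) Γ(X, U))) :=
  (D q (b k)).toSpecΓ ≫ Spec.map (CommRingCat.ofHom (coordHom b k))

theorem toAffineSpace_over (k : Fin (m + 1)) :
    toAffineSpace b k ≫ Spec.map (CommRingCat.ofHom (MvPolynomial.C : _ →+* MvPolynomial (Fin m) Γ(X, U))) ≫
      hU.fromSpec = (D q (b k)).ι ≫ π := by
  have hC : CommRingCat.ofHom (MvPolynomial.C : _ →+* MvPolynomial (Fin m) Γ(X, U)) ≫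
      CommRingCat.ofHom (coordHom b k) = π.appLE U (D q (b k)) (D_le q (b k)) := by
    ext a
    exact MvPolynomial.eval₂Hom_C _ _ _
  rw [toAffineSpace, Category.assoc, ← Spec.map_comp_assoc, hC, Scheme.Opens.toSpecΓ_SpecMap_appLE_assoc,
    IsAffineOpen.toSpecΓ_fromSpec, Scheme.Hom.resLE_comp_ι]

theorem appTop_toAffineSpace (k : Fin (m + 1)) :
    (Scheme.ΓSpecIso (CommRingCat.of (MvPolynomial (Fin m) Γ(X, U)))).inv ≫ (toAffineSpace (q := q) b k).appTop =
      CommRingCat.ofHom (coordHom b k) ≫ (D q (b k)).topIso.inv := by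
  rw [toAffineSpace, Scheme.Hom.comp_appTop, Scheme.Opens.toSpecΓ_appTop, ← Category.assoc,
    ← Scheme.ΓSpecIso_inv_naturality, Category.assoc, Iso.inv_hom_id_assoc]

include hP hU in
/-- The chart is affine space over `U`. -/
theorem isIso_toAffineSpace [Coh.IsQCoh E] (k : Fin (m + 1)) : IsIso (toAffineSpace (q := q) b k) := by
  classical
  have hinv := isInvertible_of_rankOne hP.invertible
  let R := CommRingCat.of (MvPolynomial (Fin m) Γ(X, U))
  let g₀ : Spec R ⟶ U.toScheme :=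
    Spec.map (CommRingCat.ofHom (MvPolynomial.C : _ →+* MvPolynomial (Fin m) Γ(X, U))) ≫ hU.isoSpec.inv
  let N := Coh.structureModule (Spec R)
  let co : Fin (m + 1) → Γ(Spec R, ⊤) := fun i =>
    (Scheme.ΓSpecIso R).inv.hom (Fin.insertNth (α := fun _ => MvPolynomial (Fin m) Γ(X, U)) k 1 MvPolynomial.X i)
  obtain ⟨t, ht⟩ := exists_hom_basis hU b g₀ N co
  have hgtop : (g₀ ≫ U.ι) ⁻¹ᵁ U = ⊤ := top_le_iff.1 fun x _ => (g₀ x).2
  have htk : IsGen N ⊤ (resM N hgtop.ge (t.app U (b k))) := by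
    rw [ht k, resM_resM, resM_self]
    have : co k = 1 := by simp [co]
    show IsGen N ⊤ (co k)
    rw [this]
    exact AmpleLib.isGen_oneSec ⊤
  have hepi : Epi (((Scheme.Modules.pullbackPushforwardAdjunction (g₀ ≫ U.ι)).homEquiv E N).symm t) :=
    RelVALib.epi_of_exists_gen _ t fun x => ⟨U, b k, ⊤, hgtop.ge, trivial, htk⟩
  obtain ⟨r, ⟨hr, τ, hτ⟩, -⟩ :=
    exists_classifies hP _ (PicLib.isInvertible_of_gens fun x => ⟨⊤, trivial, _, htk⟩) t hepi
  have hrU : (⊤ : (Spec R).Opens) ≤ r ⁻¹ᵁ (π ⁻¹ᵁ U) := hgtop.ge.trans (RelVALib.ge_of_over hr U)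
  have hτ' : ∀ i, τ.hom.app ⊤ (resM _ hrU (PicLib.pullSec r (sec q (b i)))) = co i := fun i => by
    rw [app_resM, show τ.hom.app _ (PicLib.pullSec r (sec q (b i))) = _ from hτ U hU (b i), resM_resM, ht i,
      resM_resM]
    exact resM_self N _ _
  have hgen : IsGen ((Scheme.Modules.pullback r).obj O1) ⊤ (resM _ hrU (PicLib.pullSec r (sec q (b k)))) := by
    have h1 := RelVALib.isGen_of_iso τ.symm (show IsGen N ⊤ (co k) by
      have := htk; rwa [ht k, resM_resM, resM_self] at this)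
    rw [← hτ' k, ← ConcreteCategory.comp_apply] at h1
    have h2 : τ.hom.app ⊤ ≫ τ.inv.app ⊤ = 𝟙 _ := congrArg (fun z => Scheme.Modules.Hom.app z ⊤) τ.hom_inv_id
    rw [Iso.symm_hom, h2] at h1
    exact h1
  have hrD : r ⁻¹ᵁ D q (b k) = ⊤ := top_le_iff.1 fun x _ => by
    obtain ⟨O, hO, hxO, hOgen⟩ := RelVALib.exists_isGen_of_pullSec r hinv (sec q (b k)) hrU hgen (x := x) trivial
    exact le_D q hO hOgen hxO
  have hco : ∀ i, r.appLE _ ⊤ hrD.ge (coord q (b k) (b i)) = co i := fun i => by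
    have e1 := congrArg (resM _ hrD.ge) (pullSec_coord q r (b k) (b i))
    rw [resM_resM, resM_smul, resM_resM] at e1
    have e2 := congrArg (τ.hom.app ⊤) e1
    rw [Scheme.Modules.Hom.app_smul, hτ' i, hτ' k] at e2
    have h1 : co k = 1 := by simp [co]
    rw [h1] at e2
    exact (e2.trans (mul_one (r.appLE _ ⊤ hrD.ge (coord q (b k) (b i))))).symm
  let φ : Spec R ⟶ (D q (b k) : Scheme.{u}) := IsOpenImmersion.lift (D q (b k)).ι r (by
    rw [Scheme.Opens.range_ι]; rintro _ ⟨x, rfl⟩; exact hrD.ge (Set.mem_univ x))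
  have hφ : φ ≫ (D q (b k)).ι = r := IsOpenImmersion.lift_fac _ _ _
  have hover : r ≫ π = Spec.map (CommRingCat.ofHom (MvPolynomial.C : _ →+* MvPolynomial (Fin m) Γ(X, U))) ≫
      hU.fromSpec := by
    rw [hr]
    show (Spec.map _ ≫ hU.isoSpec.inv) ≫ U.ι = _
    rw [Category.assoc, hU.isoSpec_inv_ι]
  have happ : ∀ z, r.appLE _ ⊤ hrD.ge (coordHom b k z) = (Scheme.ΓSpecIso R).inv.hom z := by
    intro z
    refine RingHom.congr_fun (f := (r.appLE _ ⊤ hrD.ge).hom.comp (coordHom (q := q) b k))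
      (g := (Scheme.ΓSpecIso R).inv.hom) (MvPolynomial.ringHom_ext (fun a => ?_) fun j => ?_) z
    · rw [RingHom.comp_apply, coordHom, MvPolynomial.eval₂Hom_C]
      show (π.appLE U (D q (b k)) _ ≫ r.appLE _ ⊤ _) a = _
      rw [Scheme.Hom.appLE_comp_appLE]
      simp only [hover]
      exact (ConcreteCategory.congr_hom (BlowUpLib.fromSpec_comp_appLE (U := ⟨U, hU⟩) _ _) a).trans
        (ConcreteCategory.congr_hom (Scheme.ΓSpecIso_inv_naturality
          (CommRingCat.ofHom (MvPolynomial.C : _ →+* MvPolynomial (Fin m) Γ(X, U)))) a).symm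
    · rw [RingHom.comp_apply, coordHom, MvPolynomial.eval₂Hom_X']
      refine (hco _).trans ?_
      simp [co]
  have h1 : φ ≫ toAffineSpace (q := q) b k = 𝟙 _ := by
    rw [toAffineSpace]
    have : IsIso (⊤ : (Spec R).Opens).ι := inferInstanceAs (IsIso (Spec R).topIso.hom)
    have h2 : φ ≫ (D q (b k)).toSpecΓ = (Spec R).toSpecΓ ≫ Spec.map (r.appLE _ ⊤ hrD.ge) := by
      rw [← cancel_epi (⊤ : (Spec R).Opens).ι]
      have := Scheme.Opens.toSpecΓ_SpecMap_appLE r (D q (b k)) ⊤ hrD.ge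
      rw [← Category.assoc (⊤ : (Spec R).Opens).ι (Spec R).toSpecΓ, ← Scheme.Opens.toSpecΓ_top, this, ← Category.assoc]
      refine congrArg (fun z : (⊤ : (Spec R).Opens).toScheme ⟶ (D q (b k)).toScheme => z ≫ (D q (b k)).toSpecΓ) ?_
      rw [← cancel_mono (D q (b k)).ι, Category.assoc, hφ, Scheme.Hom.resLE_comp_ι]
    rw [reassoc_of% h2, ← Spec.map_comp, show CommRingCat.ofHom (coordHom b k) ≫ r.appLE _ ⊤ hrD.ge =
      (Scheme.ΓSpecIso R).inv from CommRingCat.hom_ext (RingHom.ext happ)]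
    exact toSpecΓ_SpecMap_ΓSpecIso_inv R
  refine ⟨φ, ?_, h1⟩
  have hD : (𝟙 (D q (b k)).toScheme) ≫ (D q (b k)).ι = (D q (b k)).ι := Category.id_comp _
  refine (cancel_mono (D q (b k)).ι).1 ?_
  rw [Category.id_comp, Category.assoc]
  have hover' : ((toAffineSpace (q := q) b k ≫ φ) ≫ (D q (b k)).ι) ≫ π = (D q (b k)).ι ≫ π := by
    rw [Category.assoc, Category.assoc, reassoc_of% hφ, hover]
    exact toAffineSpace_over hU b k
  rw [← Category.assoc]
  refine eq_of_coords hP hU b k _ _ hover' ?_ ?_ fun i => ?_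
  · exact top_le_iff.1 fun x _ => ((toAffineSpace (q := q) b k ≫ φ) x).2
  · exact Scheme.Opens.ι_preimage_self _
  · have hz : ∀ i, coord q (b k) (b i) = coordHom (q := q) b k
        (Fin.insertNth (α := fun _ => MvPolynomial (Fin m) Γ(X, U)) k 1 MvPolynomial.X i) := fun i => by
      rcases Fin.eq_self_or_eq_succAbove k i with rfl | ⟨j, rfl⟩
      · rw [Fin.insertNth_apply_same, map_one, coord_self]
      · rw [Fin.insertNth_apply_succAbove, coordHom, MvPolynomial.eval₂Hom_X']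
    have e1 : ((toAffineSpace (q := q) b k ≫ φ) ≫ (D q (b k)).ι) = toAffineSpace (q := q) b k ≫ r := by
      rw [Category.assoc, hφ]
    simp only [e1]
    rw [← Scheme.Hom.appLE_comp_appLE (toAffineSpace (q := q) b k) r (D q (b k)) ⊤ ⊤ hrD.ge le_top, Scheme.Opens.ι_appLE,
      CommRingCat.comp_apply]
    rw [hz i, happ]
    rw [show (toAffineSpace (q := q) b k).appLE ⊤ ⊤ le_top = (toAffineSpace (q := q) b k).appTop from
      Scheme.Hom.appLE_eq_app (f := toAffineSpace (q := q) b k) (U := ⊤)]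
    refine (ConcreteCategory.congr_hom (appTop_toAffineSpace (q := q) b k) _).trans ?_
    rw [CommRingCat.comp_apply, Scheme.Opens.topIso_inv]
    rfl

end Groth.Agent.KRRPBLib
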